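import Groth.Agent.AgPol.K117.Nodes
import Groth.Agent.S2155
import Groth.Agent.S0403
import Groth.Agent.S0404
import Groth.Agent.S3023
import Groth.Agent.Fga.FSGeo
import Groth.Agent.Ega3B.ProjProper
import Groth.Agent.Flat2G.ProperDim

/-!
# The locus where `(X, e)` is an abelian scheme of relative dimension `g`

`K117.Ag.Node.AbLocus` from `S11448` (open subscheme representing abelian scheme structures on a smooth projective scheme).
-/

set_option autoImplicit false
universe u v

open CategoryTheory Limits MonoidalCategory CartesianMonoidalCategory AlgebraicGeometry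
open scoped MonObj

namespace K275.AbLoc

noncomputable section

/-! ### Geometric connectedness from a section and connected geometric fibres -/

theorem isConnected_fibre {S : Scheme.{u}} (X : Over S) (t : S) (h : ConnectedSpace (Red.geomFibre t X).left) :
    _root_.IsConnected (X.hom ⁻¹' {t}) := by
  have h1 : Set.range (pullback.fst X.hom (Red.geomPt t)) = X.hom ⁻¹' Set.range (Red.geomPt t) :=
    Scheme.Pullback.range_fst _ _
  have h2 : Set.range (Red.geomPt t) = {t} := by
    have h3 : Set.range (Spec.map (CommRingCat.ofHom (algebraMap (S.residueField t)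
        (AlgebraicClosure (S.residueField t))))) = Set.univ := by
      have : Surjective (Spec.map (CommRingCat.ofHom (algebraMap (S.residueField t)
        (AlgebraicClosure (S.residueField t))))) := inferInstance
      exact Set.range_eq_univ.2 this.surj
    rw [Red.geomPt, Scheme.Hom.comp_base, TopCat.coe_comp, Set.range_comp, h3, Set.image_univ]
    exact Scheme.range_fromSpecResidueField t
  rw [h2] at h1
  rw [← h1]
  have : ConnectedSpace ↥(pullback X.hom (Red.geomPt t)) := h
  exact isConnected_range (pullback.fst X.hom (Red.geomPt t)).continuous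

theorem geomConn_of_section {S : Scheme.{u}} {X : Over S} (e : 𝟙_ (Over S) ⟶ X)
    (h : ∀ t : S, ConnectedSpace (Red.geomFibre t X).left) : GeometricallyConnected X.hom := by
  rw [GeometricallyConnected.iff_geometricallyConnected_fiber]
  intro s
  have h1 : ConnectedSpace ↥(X.hom.fiber s) := by
    have := isConnected_iff_connectedSpace.1 (isConnected_fibre X s (h s))
    exact (X.hom.fiberHomeo s).connectedSpace_iff.2 this
  have he : e.left ≫ X.hom = 𝟙 S := Over.w e
  exact Groth.Agent.S3023.geometricallyConnected_of_point (X.hom.fiberToSpecResidueField s)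
    (pullback.lift (S.fromSpecResidueField s ≫ e.left) (𝟙 _) (by rw [Category.assoc, he, Category.comp_id]; exact (Category.id_comp _).symm)) (pullback.lift_snd _ _ _)

/-! ### The smooth locus -/

section smooth

variable {T : Scheme.{u}} (X : Over T) [LocallyOfFinitePresentation X.hom] [IsProper X.hom]

/-- The points of the base over which `X` is smooth. -/
def smoothBase : T.Opens :=
  ⟨(X.hom '' ((X.hom.smoothLocus : Set X.left)ᶜ))ᶜ, by
    rw [isOpen_compl_iff]
    exact X.hom.isClosedMap _ (X.hom.smoothLocus.isOpen.isClosed_compl)⟩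

theorem smooth_bc_iff [Flat X.hom] {T' : Scheme.{u}} (f : T' ⟶ T) :
    Smooth (Red.bc f X).hom ↔ Set.range f ⊆ (smoothBase X : Set T) := by
  have h1 : (pullback.snd X.hom f).smoothLocus = (pullback.fst X.hom f) ⁻¹ᵁ X.hom.smoothLocus :=
    Groth.Agent.S2155.result X.hom f (pullback.snd X.hom f) (pullback.fst X.hom f)
      (IsPullback.of_hasPullback _ _) (Or.inl inferInstance)
  change Smooth (pullback.snd X.hom f) ↔ _
  rw [← Scheme.Hom.smoothLocus_eq_top_iff, h1]
  have h2 := Scheme.Pullback.range_fst X.hom f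
  constructor
  · rintro h t ht ⟨x, hx, rfl⟩
    have h3 : x ∈ Set.range (pullback.fst X.hom f) := by rw [h2]; exact ht
    obtain ⟨y, rfl⟩ := h3
    refine hx ?_
    have h4 : y ∈ (⊤ : (pullback X.hom f).Opens) := trivial
    rw [← h] at h4
    exact h4
  · intro h
    refine top_le_iff.1 fun y _ => ?_
    by_contra hy
    refine h ⟨pullback.snd X.hom f y, rfl⟩ ⟨pullback.fst X.hom f y, hy, ?_⟩
    rw [← Scheme.Hom.comp_apply, pullback.condition, Scheme.Hom.comp_apply]

end smooth

/-! ### The fibre dimension -/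

section dim

variable {T : Scheme.{u}} (X : Over T) [LocallyOfFinitePresentation X.hom] [IsProper X.hom] [Flat X.hom]

/-- The points of the base over which the fibre has dimension `g`. -/
def dimBase (g : ℕ) : T.Opens :=
  ⟨{t : T | topologicalKrullDim (X.hom.fiber t) = g}, by
    have h1 := Groth.Agent.S0403.result X.hom (g : WithBot ℕ∞)
    cases g with
    | zero =>
      have h2 := Groth.Agent.S0404.result X.hom (⊥ : WithBot ℕ∞)
      convert h1.inter h2 using 1
      ext t
      simp only [Set.mem_ofPred_eq, Set.mem_inter_iff]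
      generalize topologicalKrullDim (X.hom.fiber t) = d
      constructor
      · rintro rfl
        exact ⟨le_refl _, WithBot.bot_lt_coe _⟩
      · rintro ⟨h3, h4⟩
        obtain ⟨d', rfl⟩ := WithBot.ne_bot_iff_exists.1 h4.ne'
        have h5 : d' ≤ ((0 : ℕ) : ℕ∞) := WithBot.coe_le_coe.1 h3
        exact le_antisymm h3 (WithBot.coe_le_coe.2 (by simp))
    | succ k =>
      have h2 := Groth.Agent.S0404.result X.hom (k : WithBot ℕ∞)
      convert h1.inter h2 using 1
      ext t
      simp only [Set.mem_ofPred_eq, Set.mem_inter_iff]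
      generalize topologicalKrullDim (X.hom.fiber t) = d
      constructor
      · rintro rfl
        refine ⟨le_refl _, ?_⟩
        exact_mod_cast Nat.lt_succ_self k
      · rintro ⟨h3, h4⟩
        refine le_antisymm h3 ?_
        obtain ⟨d', rfl⟩ := WithBot.ne_bot_iff_exists.1 (lt_of_le_of_lt bot_le h4).ne'
        have h5 : ((k : ℕ) : ℕ∞) < d' := WithBot.coe_lt_coe.1 h4
        refine WithBot.coe_le_coe.2 ?_
        have h6 := Order.add_one_le_of_lt h5
        exact_mod_cast h6⟩

theorem fibreDim_bc_iff {T' : Scheme.{u}} (f : T' ⟶ T) (g : ℕ) :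
    (∀ s : T', topologicalKrullDim ((Red.bc f X).hom.fiber s) = g) ↔ Set.range f ⊆ (dimBase X g : Set T) := by
  have h1 : ∀ s : T', topologicalKrullDim ((Red.bc f X).hom.fiber s) = topologicalKrullDim (X.hom.fiber (f s)) :=
    fun s => Groth.Agent.Flat2G.ProperDim.topologicalKrullDim_fiber_baseChange X.hom (pullback.snd X.hom f) (pullback.fst X.hom f) f
      (IsPullback.of_hasPullback X.hom f) s
  constructor
  · rintro h _ ⟨s, rfl⟩
    exact (h1 s).symm.trans (h s)
  · intro h s
    exact (h1 s).trans (h ⟨s, rfl⟩)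

end dim

/-! ### Projective embeddings and base change -/

theorem exists_closed_bc {T T' : Scheme.{u}} {X : Over T} {m : ℕ} (i : X ⟶ Over.mk (CohB1.ProjSpaceOver.toBase m T))
    [IsClosedImmersion i.left] (f : T' ⟶ T) :
    ∃ j : Red.bc f X ⟶ Over.mk (CohB1.ProjSpaceOver.toBase m T'), IsClosedImmersion j.left := by
  have hi : i.left ≫ CohB1.ProjSpaceOver.toBase m T = X.hom := Over.w i
  have h1 := Groth.Agent.Fga.FSGeo.isPullback_projMap (n := m) f
  have h2 : IsPullback (pullback.fst X.hom f) (pullback.snd X.hom f) (i.left ≫ CohB1.ProjSpaceOver.toBase m T) f := by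
    rw [hi]
    exact IsPullback.of_hasPullback _ _
  let l := h1.lift (pullback.fst X.hom f ≫ i.left) (pullback.snd X.hom f) (by rw [Category.assoc]; exact h2.w)
  have hl1 : l ≫ FGA.projMap m f = pullback.fst X.hom f ≫ i.left := h1.lift_fst _ _ _
  have hl2 : l ≫ CohB1.ProjSpaceOver.toBase m T' = pullback.snd X.hom f := h1.lift_snd _ _ _
  have h3 : IsPullback l (pullback.fst X.hom f) (FGA.projMap m f) i.left := by
    refine IsPullback.of_right (h₁₂ := CohB1.ProjSpaceOver.toBase m T') (h₂₂ := CohB1.ProjSpaceOver.toBase m T)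
      (v₁₃ := f) ?_ hl1 h1.flip
    rw [hl2]
    exact h2.flip
  have h4 : IsClosedImmersion l := MorphismProperty.of_isPullback (P := @IsClosedImmersion) h3.flip inferInstance
  exact ⟨Over.homMk l hl2, h4⟩

/-! ### Translation of the unit -/

section unit

variable {C : Type*} [Category* C] [CartesianMonoidalCategory C] (G : C) [GrpObj G]

/-- Right translation by a point. -/
def transl (e : 𝟙_ C ⟶ G) : G ≅ G where
  hom := 𝟙 G * (toUnit G ≫ e)
  inv := 𝟙 G * (toUnit G ≫ e)⁻¹
  hom_inv_id := by
    rw [MonObj.comp_mul, GrpObj.comp_inv, Category.comp_id, ← Category.assoc, toUnit_unique (_ ≫ toUnit G) (toUnit G),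
      mul_assoc, mul_inv_cancel, mul_one]
  inv_hom_id := by
    rw [MonObj.comp_mul, Category.comp_id, ← Category.assoc, toUnit_unique (_ ≫ toUnit G) (toUnit G),
      mul_assoc, inv_mul_cancel, mul_one]

/-- The unit of a group structure can be any point. -/
theorem exists_grp_unit (e : 𝟙_ C ⟶ G) : ∃ _ : GrpObj G, η[G] = e := by
  refine ⟨GrpObj.ofIso (transl G e), ?_⟩
  change η[G] ≫ (𝟙 G * (toUnit G ≫ e)) = e
  rw [MonObj.comp_mul, Category.comp_id, ← Category.assoc, toUnit_unique (η[G] ≫ toUnit G) (𝟙 _), Category.id_comp,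
    MonObj.one_eq_one, one_mul]

end unit

/-! ### The main theorem -/

/-- The statement of `S11448`. -/
def Stmt11448 : Prop :=
  ∀ (S : Scheme.{u}) [IsLocallyNoetherian S] (X : Over S) [Smooth X.hom] (n : ℕ)
    (i : X ⟶ Over.mk (CohB1.ProjSpaceOver.toBase n S)) [IsClosedImmersion i.left] (_ : 𝟙_ (Over S) ⟶ X),
    ∃ U : S.Opens, ∀ (T : Scheme.{u}) [IsLocallyNoetherian T] (f : T ⟶ S),
      (Nonempty (GrpObj (Red.bc f X)) ∧ ∀ t : T, ConnectedSpace (Red.geomFibre t (Red.bc f X)).left) ↔
        Set.range f.base ⊆ (U : Set S)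

/-- Composition of base changes. -/
def bcComp {T V T' : Scheme.{u}} (X : Over T) (j : V ⟶ T) (f : T' ⟶ V) :
    Red.bc f (Red.bc j X) ≅ Red.bc (f ≫ j) X :=
  (Over.pullbackComp f j).symm.app X

theorem main (h : Stmt11448.{u}) : K117.Ag.Node.AbLocus.{u} := by
  intro T _ X m i _ _ e g
  have hP : IsProper (CohB1.ProjSpaceOver.toBase m T) := Groth.Agent.Ega3B.ProjProper.isProper_toBase m T
  have hX : IsProper X.hom := by
    rw [← Over.w i]
    exact inferInstanceAs (IsProper (i.left ≫ CohB1.ProjSpaceOver.toBase m T))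
  have hfp : LocallyOfFinitePresentation X.hom := LocallyOfFinitePresentation.iff_locallyOfFiniteType.2 inferInstance
  let V : T.Opens := smoothBase X
  have hsm : Smooth (Red.bc V.ι X).hom := (smooth_bc_iff X V.ι).2 (by rw [Scheme.Opens.range_ι])
  obtain ⟨j, hj⟩ := exists_closed_bc i V.ι
  obtain ⟨U₁, hU₁⟩ := h (V : Scheme.{u}) (Red.bc V.ι X) m j (K117.Ag.secBc V.ι e)
  refine ⟨V.ι ''ᵁ U₁ ⊓ dimBase X g, fun T' _ f => ?_⟩
  constructor
  · intro hf
    have h1 : Set.range f ⊆ (V : Set T) := by
      refine hf.trans ?_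
      rintro _ ⟨⟨x, _, rfl⟩, _⟩
      exact x.2
    have h2 : Set.range f ⊆ (dimBase X g : Set T) := hf.trans fun x hx => hx.2
    obtain ⟨f', rfl⟩ : ∃ f' : T' ⟶ (V : Scheme.{u}), f' ≫ V.ι = f :=
      ⟨IsOpenImmersion.lift V.ι f (by rw [Scheme.Opens.range_ι]; exact h1), IsOpenImmersion.lift_fac _ _ _⟩
    have h3 : Set.range f'.base ⊆ (U₁ : Set (V : Scheme.{u})) := by
      rintro _ ⟨t, rfl⟩
      obtain ⟨⟨y, hy, hy'⟩, _⟩ := hf ⟨t, rfl⟩
      have h4 : y = f' t := V.ι.isOpenEmbedding.injective (hy'.trans (Scheme.Hom.comp_apply _ _ _))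
      rw [← h4]
      exact hy
    obtain ⟨⟨hG⟩, hc⟩ := (hU₁ T' f').2 h3
    let φ := bcComp X V.ι f'
    have hG' : GrpObj (Red.bc (f' ≫ V.ι) X) := GrpObj.ofIso φ
    have hgc : GeometricallyConnected (Red.bc f' (Red.bc V.ι X)).hom :=
      geomConn_of_section (X := Red.bc f' (Red.bc V.ι X)) η[Red.bc f' (Red.bc V.ι X)] hc
    refine ⟨⟨(smooth_bc_iff X _).2 h1, ?_, ?_, (fibreDim_bc_iff X _ g).2 h2⟩, exists_grp_unit _ _⟩
    · exact inferInstanceAs (IsProper (pullback.snd X.hom (f' ≫ V.ι)))
    · rw [← Over.w φ.inv]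
      exact (MorphismProperty.cancel_left_of_respectsIso @GeometricallyConnected φ.inv.left _).2 hgc
  · rintro ⟨hab, hgrp, -⟩
    have h1 : Set.range f ⊆ (V : Set T) := (smooth_bc_iff X f).1 hab.smooth
    have h2 : Set.range f ⊆ (dimBase X g : Set T) := (fibreDim_bc_iff X f g).1 hab.fibreDim
    obtain ⟨f', rfl⟩ : ∃ f' : T' ⟶ (V : Scheme.{u}), f' ≫ V.ι = f :=
      ⟨IsOpenImmersion.lift V.ι f (by rw [Scheme.Opens.range_ι]; exact h1), IsOpenImmersion.lift_fac _ _ _⟩
    let φ := bcComp X V.ι f'
    have hG' : GrpObj (Red.bc f' (Red.bc V.ι X)) := GrpObj.ofIso φ.symm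
    have hgc : GeometricallyConnected (Red.bc f' (Red.bc V.ι X)).hom := by
      have := hab.geomConnected
      rw [← Over.w φ.hom]
      exact (MorphismProperty.cancel_left_of_respectsIso @GeometricallyConnected φ.hom.left _).2 this
    have h3 := (hU₁ T' f').1 ⟨⟨hG'⟩, fun t => hgc.geometrically_connectedSpace _ _ _ (IsPullback.of_hasPullback _ _)⟩
    rintro _ ⟨t, rfl⟩
    refine ⟨⟨f' t, h3 ⟨t, rfl⟩, (Scheme.Hom.comp_apply _ _ _).symm⟩, h2 ⟨t, rfl⟩⟩

end

end K275.AbLoc
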